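import Mathlib
import Groth.Agent.LieKolchinLib.DimOne
import Groth.Agent.WeilLib.Dim
import Groth.Agent.UnipHopfLib.Primitive

/-!
Connected one dimensional groups: primitive elements, group-like elements and their relations.
-/

set_option autoImplicit false
set_option maxHeartbeats 1000000

noncomputable section

universe u

open TensorProduct HopfRep WithConv Polynomial
open scoped ComodLib Polynomial.Bivariate

namespace Groth.Agent.GaGmClass

section poly

variable {k : Type u} [Field k] [Infinite k]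

lemma eq_zero_of_evalEval {Q : k[X][Y]} (h : ∀ a b : k, Q.evalEval a b = 0) : Q = 0 := by
  ext n : 1
  refine Polynomial.funext fun a => ?_
  have h1 : Q.map (evalRingHom a) = 0 := Polynomial.funext fun b => by
    rw [map_evalRingHom_eval, h, eval_zero]
  simpa using congrArg (fun P => P.coeff n) h1

lemma exists_minimal {S : Set (k × k)} (h : ∃ Q : k[X][Y], Q ≠ 0 ∧ ∀ s ∈ S, Q.evalEval s.1 s.2 = 0) :
    ∃ Q : k[X][Y], Q ≠ 0 ∧ (∀ s ∈ S, Q.evalEval s.1 s.2 = 0) ∧
      ∀ Q' : k[X][Y], (∀ s ∈ S, Q'.evalEval s.1 s.2 = 0) → Q'.natDegree ≤ Q.natDegree →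
        ((Q'.coeff Q.natDegree).degree < (Q.coeff Q.natDegree).degree) → Q' = 0 := by
  classical
  have h1 : ∃ j, ∃ Q : k[X][Y], Q ≠ 0 ∧ (∀ s ∈ S, Q.evalEval s.1 s.2 = 0) ∧ Q.natDegree = j := by
    obtain ⟨Q, h⟩ := h
    exact ⟨_, Q, h.1, h.2, rfl⟩
  have h2 : ∃ e, ∃ Q : k[X][Y], Q ≠ 0 ∧ (∀ s ∈ S, Q.evalEval s.1 s.2 = 0) ∧ Q.natDegree = Nat.find h1 ∧
      (Q.coeff (Nat.find h1)).natDegree = e := by
    obtain ⟨Q, a, b, c⟩ := Nat.find_spec h1
    exact ⟨_, Q, a, b, c, rfl⟩
  obtain ⟨Q, h0, hS, hj, he⟩ := Nat.find_spec h2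
  refine ⟨Q, h0, hS, fun Q' hS' hle hdeg => by_contra fun hne => ?_⟩
  rw [hj] at hle hdeg
  have hj' : Q'.natDegree = Nat.find h1 := le_antisymm hle (Nat.find_min' h1 ⟨Q', hne, hS', rfl⟩)
  have hc : Q'.coeff (Nat.find h1) ≠ 0 := by rw [← hj']; exact leadingCoeff_ne_zero.2 hne
  have := natDegree_lt_natDegree hc hdeg
  exact absurd this (not_lt.2 (he ▸ Nat.find_min' h2 ⟨Q', hne, hS', hj', rfl⟩))

/-- Translation of a bivariate polynomial. -/
def tr (a b : k) (Q : k[X][Y]) : k[X][Y] :=
  (Q.map (Polynomial.compRingHom (X + C a))).comp (X + C (C b))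

lemma evalEval_tr (a b x y : k) (Q : k[X][Y]) :
    (tr a b Q).evalEval x y = Q.evalEval (x + a) (y + b) := by
  rw [tr, ← map_evalRingHom_eval, Polynomial.map_comp, eval_comp, Polynomial.map_map, ← map_evalRingHom_eval]
  have e : (evalRingHom x).comp (compRingHom (X + C a)) = evalRingHom (x + a) :=
    RingHom.ext fun p => by simp [eval_comp]
  simp [e]

lemma natDegree_tr_le (a b : k) (Q : k[X][Y]) : (tr a b Q).natDegree ≤ Q.natDegree := by
  refine natDegree_comp_le.trans ?_
  rw [natDegree_X_add_C, mul_one]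
  exact natDegree_map_le

lemma coeff_tr_natDegree (a b : k) (Q : k[X][Y]) :
    (tr a b Q).coeff Q.natDegree = (Q.coeff Q.natDegree).comp (X + C a) := by
  set P := Q.map (compRingHom (X + C a)) with hP
  have h : P.coeff Q.natDegree = (Q.coeff Q.natDegree).comp (X + C a) := by simp [hP]
  rw [← h]
  show (P.comp (X + C (C b))).coeff _ = _
  have hd : P.natDegree ≤ Q.natDegree := natDegree_map_le
  rcases hd.lt_or_eq with hlt | heq
  · rw [coeff_eq_zero_of_natDegree_lt hlt, coeff_eq_zero_of_natDegree_lt]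
    exact lt_of_le_of_lt (natDegree_comp_le.trans (by rw [natDegree_X_add_C, mul_one])) hlt
  · rw [← heq]
    have h2 := coeff_comp_degree_mul_degree (p := P) (q := X + C (C b)) (by rw [natDegree_X_add_C]; exact one_ne_zero)
    rw [natDegree_X_add_C, mul_one, (monic_X_add_C _).leadingCoeff, one_pow, mul_one] at h2
    exact h2

lemma degree_comp_sub_lt {L : k[X]} (hL : L ≠ 0) (a : k) : (L.comp (X + C a) - L).degree < L.degree := by
  have h1 : (L.comp (X + C a)).natDegree = L.natDegree := by rw [natDegree_comp, natDegree_X_add_C, mul_one]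
  have h0 : L.comp (X + C a) ≠ 0 := fun h => hL (by
    have := congrArg (fun P => P.comp (X - C a)) h
    simpa [comp_assoc] using this)
  refine (degree_sub_lt ?_ h0 ?_).trans_le ?_
  · rw [degree_eq_natDegree h0, degree_eq_natDegree hL, h1]
  · rw [leadingCoeff_comp (by rw [natDegree_X_add_C]; exact one_ne_zero),
      (monic_X_add_C a).leadingCoeff, one_pow, mul_one]
  · rw [degree_eq_natDegree h0, degree_eq_natDegree hL, h1]

end poly

section additive

variable {k : Type u} [Field k] [IsAlgClosed k] (p : ℕ) [Fact p.Prime] [CharP k p]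

/-- Additive polynomials in characteristic `p`. -/
theorem exists_additive_coeffs (f : k[X]) (hf : ∀ a b, f.eval (a + b) = f.eval a + f.eval b) :
    ∃ (N : ℕ) (c : ℕ → k), f = ∑ i ∈ Finset.range N, C (c i) * X ^ p ^ i := by
  induction hn : f.natDegree using Nat.strong_induction_on generalizing f with
  | _ n ih =>
  subst hn
  have hf0 : f.eval 0 = 0 := by simpa using hf 0 0
  rcases Nat.eq_zero_or_pos f.natDegree with h0 | hpos
  · obtain ⟨c, rfl⟩ := natDegree_eq_zero.1 h0
    refine ⟨0, 0, ?_⟩
    rw [eval_C] at hf0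
    simp [hf0]
  have hper : ∀ b, f.comp (X + C b) = f + C (f.eval b) := fun b => Polynomial.funext fun a => by
    simp [eval_comp, hf]
  have hd : derivative f = C ((derivative f).eval 0) := Polynomial.funext fun b => by
    have := congrArg (fun P => (derivative P).eval 0) (hper b)
    simpa [derivative_comp, eval_comp] using this
  set c := (derivative f).eval 0
  set h := f - C c * X with hh
  have hdh : derivative h = 0 := by simp [hh, hd]
  have hp : p ≠ 0 := (Fact.out (p := p.Prime)).ne_zero
  have hexp := expand_contract p hdh hp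
  set g := contract p h
  have hev : ∀ a, g.eval (a ^ p) = f.eval a - c * a := fun a => by
    have := congrArg (Polynomial.eval a) hexp
    rw [expand_eval] at this
    simpa [hh] using this
  have hg : ∀ a b, g.eval (a + b) = g.eval a + g.eval b := fun a b => by
    obtain ⟨a, rfl⟩ := IsAlgClosed.exists_pow_nat_eq a (Fact.out (p := p.Prime)).pos
    obtain ⟨b, rfl⟩ := IsAlgClosed.exists_pow_nat_eq b (Fact.out (p := p.Prime)).pos
    rw [← add_pow_char, hev, hev, hev, hf]
    ring
  have hdeg : g.natDegree < f.natDegree := by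
    have h1 : h.natDegree = g.natDegree * p := by rw [← hexp, natDegree_expand]
    have h2 : h.natDegree ≤ f.natDegree := by
      refine (natDegree_sub_le _ _).trans (max_le le_rfl ?_)
      exact (natDegree_C_mul_X_pow_le (a := c) (n := 1)).trans' (by simp) |>.trans hpos
    have := (Fact.out (p := p.Prime)).two_le
    nlinarith
  obtain ⟨N, b, hb⟩ := ih _ hdeg g hg rfl
  refine ⟨N + 1, fun i => Nat.casesOn i c b, Polynomial.funext fun a => ?_⟩
  rw [Finset.sum_range_succ']
  simp only [eval_add, eval_finsetSum, eval_mul, eval_C, eval_pow, eval_X, pow_zero, pow_one, pow_succ']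
  have h3 := hev a
  rw [hb] at h3
  simp only [eval_finsetSum, eval_mul, eval_C, eval_pow, eval_X, ← pow_mul] at h3
  linear_combination -h3

end additive

section hopf

variable {k : Type u} [Field k] {A : Type u} [CommRing A] [HopfAlgebra k A]

local notation "G" => WithConv (A →ₐ[k] k)

variable (k) in
/-- Primitive elements. -/
def Prim (x : A) : Prop :=
  CoalgebraStruct.comul (R := k) x = x ⊗ₜ[k] (1 : A) + (1 : A) ⊗ₜ[k] x

/-- Evaluation of a tensor at a pair of points. -/
def pair (g h : G) : A ⊗[k] A →ₐ[k] k := Algebra.TensorProduct.productMap g.ofConv h.ofConv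

lemma mul_apply (g h : G) (a : A) : (g * h).ofConv a = pair g h (CoalgebraStruct.comul (R := k) a) := by
  show (g * h) a = _
  rw [AlgHom.convMul_apply]
  rfl

lemma Prim.mul_apply {x : A} (hx : Prim k x) (g h : G) :
    (g * h).ofConv x = g.ofConv x + h.ofConv x := by
  rw [GaGmClass.mul_apply, show CoalgebraStruct.comul (R := k) x = _ from hx]
  simp [pair]

lemma mul_apply_groupLike {x : A} (hx : IsGroupLikeElem k x) (g h : G) :
    (g * h).ofConv x = g.ofConv x * h.ofConv x := by
  rw [mul_apply, hx.comul_eq_tmul_self]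
  simp [pair]

variable [IsAlgClosed k] [Algebra.FiniteType k A] [IsReduced A]

lemma ext_pair {z w : A ⊗[k] A} (h : ∀ g g' : G, pair g g' z = pair g g' w) : z = w := by
  refine ComodLib.ext_sliceL (V := A) fun φ => LieKolchinLib.eq_of_forall_point (k := k) fun g => ?_
  have key : ∀ z : A ⊗[k] A, g.ofConv (ComodLib.sliceL φ z) =
      φ (ComodLib.slice g.ofConv.toLinearMap z) := fun z =>
    (ComodLib.apply_slice φ g.ofConv.toLinearMap z).symm
  rw [key, key]
  congr 1
  refine LieKolchinLib.eq_of_forall_point (k := k) fun f => ?_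
  have hz : ∀ z : A ⊗[k] A, f.ofConv (ComodLib.slice g.ofConv.toLinearMap z) = pair f g z := fun z => by
    induction z using TensorProduct.induction_on with
    | zero => simp
    | add z z' hz hz' => simp only [map_add, hz, hz']
    | tmul p q => simp [ComodLib.slice, pair, mul_comm]
  rw [hz, hz, h]

lemma prim_of_points {x : A} (h : ∀ g g' : G, (g * g').ofConv x = g.ofConv x + g'.ofConv x) : Prim k x :=
  ext_pair fun g g' => by
    rw [← mul_apply, h]
    simp [pair]

variable [IsDomain A]

lemma isScalar_of_aeval_eq_zero {x : A} {P : k[X]} (hP : P ≠ 0) (h : aeval x P = 0) :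
    ∃ c : k, x = algebraMap k A c := by
  have hx : IsIntegral k x := (IsAlgebraic.isIntegral ⟨P, hP, h⟩)
  have : Algebra.IsIntegral k (Algebra.adjoin k {x}) :=
    Algebra.IsIntegral.adjoin fun y hy => by rw [Set.mem_singleton_iff.1 hy]; exact hx
  obtain ⟨c, hc⟩ := (IsAlgClosed.algebraMap_bijective_of_isIntegral (k := k) (K := Algebra.adjoin k {x})).2
    ⟨x, Algebra.self_mem_adjoin_singleton k x⟩
  exact ⟨c, (congrArg Subtype.val hc).symm⟩

lemma transcendental_prim {x : A} (hx : Prim k x) (h0 : x ≠ 0) {P : k[X]} (h : aeval x P = 0) : P = 0 := by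
  by_contra hP
  obtain ⟨c, rfl⟩ := isScalar_of_aeval_eq_zero hP h
  have := UnipHopf.counit_primitive hx
  rw [Bialgebra.counit_algebraMap] at this
  exact h0 (by rw [this, map_zero])

lemma transcendental_groupLike {g : A} (hg : IsGroupLikeElem k g) (h1 : g ≠ 1) {P : k[X]} (h : aeval g P = 0) :
    P = 0 := by
  by_contra hP
  obtain ⟨c, rfl⟩ := isScalar_of_aeval_eq_zero hP h
  have := hg.counit_eq_one
  rw [Bialgebra.counit_algebraMap] at this
  exact h1 (by rw [this, map_one])

lemma aeval_eq_zero_of_points {x : A} {P : k[X]} (h : ∀ g : G, P.eval (g.ofConv x) = 0) : aeval x P = 0 :=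
  LieKolchinLib.eq_of_forall_point (k := k) fun g => by
    rw [map_zero, ← Polynomial.aeval_algHom_apply, coe_aeval_eq_eval, h]

/-- Any two functions on a curve are algebraically dependent. -/
theorem not_algebraicIndependent (hdim : ringKrullDim A = 1) (a b : A) :
    ¬ AlgebraicIndependent k ![a, b] := fun hi => by
  obtain ⟨s, hs, htr⟩ := WeilLib.dim_eq_trdeg k A (FractionRing A)
  rw [hdim] at hs
  have hs1 : s = 1 := by exact_mod_cast hs.symm
  subst hs1
  have h2 := (hi.map' (f := IsScalarTower.toAlgHom k A (FractionRing A))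
    (IsFractionRing.injective A (FractionRing A))).lift_cardinalMk_le_trdeg
  rw [htr] at h2
  simp at h2

/-- A polynomial relation between two functions on a curve. -/
theorem exists_relation (hdim : ringKrullDim A = 1) (a b : A) :
    ∃ Q : k[X][Y], Q ≠ 0 ∧ ∀ g : G, Q.evalEval (g.ofConv a) (g.ofConv b) = 0 := by
  have hni := not_algebraicIndependent (k := k) hdim a b
  rw [algebraicIndependent_iff] at hni
  push Not at hni
  obtain ⟨P, hP, hP0⟩ := hni
  let φ : MvPolynomial (Fin 2) k →ₐ[k] k[X][Y] := MvPolynomial.aeval ![C X, Y]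
  let ψ : k[X][Y] →ₐ[k] MvPolynomial (Fin 2) k :=
    Polynomial.aevalAeval (MvPolynomial.X 0) (MvPolynomial.X 1)
  have hψ : ψ.comp φ = AlgHom.id k _ := MvPolynomial.algHom_ext fun i => by
    fin_cases i <;> simp [φ, ψ]
  refine ⟨φ P, fun h => hP0 ?_, fun g => ?_⟩
  · have := congrArg ψ h
    rwa [map_zero, ← AlgHom.comp_apply, hψ] at this
  · have e : (Polynomial.aevalAeval (g.ofConv a) (g.ofConv b)).comp φ = g.ofConv.comp (MvPolynomial.aeval ![a, b]) :=
      MvPolynomial.algHom_ext fun i => by fin_cases i <;> simp [φ]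
    have := congrArg (fun f : MvPolynomial (Fin 2) k →ₐ[k] k => f P) e
    simp only [AlgHom.comp_apply, hP, map_zero] at this
    rwa [coe_aevalAeval_eq_evalEval] at this

/-- A nonzero primitive excludes nontrivial group-like elements. -/
theorem groupLike_eq_one (hdim : ringKrullDim A = 1) {x : A} (hx : Prim k x) (hx0 : x ≠ 0)
    {g : A} (hg : IsGroupLikeElem k g) : g = 1 := by
  by_contra hg1
  let S : Set (k × k) := Set.range fun f : G => (f.ofConv x, f.ofConv g)
  obtain ⟨Q₁, hQ₁, hS₁⟩ := exists_relation (k := k) hdim x g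
  obtain ⟨Q, hQ, hS, hmin⟩ := exists_minimal (S := S) ⟨Q₁, hQ₁, by rintro _ ⟨f, rfl⟩; exact hS₁ f⟩
  set j := Q.natDegree
  have hlead : Q.coeff j ≠ 0 := leadingCoeff_ne_zero.2 hQ
  have hQ' : ∀ (h : G) (i : ℕ), C ((h.ofConv g) ^ i) * (Q.coeff i).comp (X + C (h.ofConv x)) =
      C ((h.ofConv g) ^ j) * Q.coeff i := by
    intro h i
    set a := h.ofConv x
    set t := h.ofConv g
    let Q' := (Q.map (compRingHom (X + C a))).comp (C (C t) * X) - C (C (t ^ j)) * Q
    have hc : ∀ i, Q'.coeff i = C (t ^ i) * (Q.coeff i).comp (X + C a) - C (t ^ j) * Q.coeff i := fun i => by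
      simp only [Q', coeff_sub, comp_C_mul_X_coeff, coeff_map, coeff_C_mul, coe_compRingHom_apply, ← C_pow]
      ring
    have h0 : Q' = 0 := by
      refine hmin Q' ?_ ?_ ?_
      · rintro _ ⟨f, rfl⟩
        have h1 := hS _ ⟨f * h, rfl⟩
        have h2 := hS _ ⟨f, rfl⟩
        simp only [hx.mul_apply, mul_apply_groupLike hg] at h1
        simp only at h2
        have e : (evalRingHom (f.ofConv x)).comp (compRingHom (X + C a)) = evalRingHom (f.ofConv x + a) :=
          RingHom.ext fun p => by simp [eval_comp]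
        simp only [Q', evalEval_sub, evalEval_mul, evalEval_C, eval_C, h2, mul_zero, sub_zero]
        rw [← map_evalRingHom_eval, Polynomial.map_comp, eval_comp, Polynomial.map_map, e]
        simp only [Polynomial.map_mul, Polynomial.map_C, Polynomial.map_X, coe_evalRingHom, eval_mul, eval_C, eval_X]
        rw [map_evalRingHom_eval, mul_comm t]
        exact h1
      · refine natDegree_le_iff_coeff_eq_zero.2 fun N hN => ?_
        rw [hc, coeff_eq_zero_of_natDegree_lt (show Q.natDegree < N from hN)]
        simp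
      · rw [hc, ← mul_sub]
        exact ((degree_mul_le _ _).trans (add_le_of_nonpos_left degree_C_le)).trans_lt (degree_comp_sub_lt hlead a)
    have := hc i
    rw [h0, coeff_zero] at this
    exact sub_eq_zero.1 this.symm
  -- only the top coefficient is nonzero
  have hrest : ∀ i, i ≠ j → Q.coeff i = 0 := by
    intro i hij
    by_contra hne
    have hpow : ∀ h : G, (h.ofConv g) ^ i = (h.ofConv g) ^ j := fun h => by
      have h1 := congrArg leadingCoeff (hQ' h i)
      rw [leadingCoeff_mul, leadingCoeff_mul, leadingCoeff_C, leadingCoeff_C,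
        leadingCoeff_comp (by rw [natDegree_X_add_C]; exact one_ne_zero),
        (monic_X_add_C _).leadingCoeff, one_pow, mul_one] at h1
      exact mul_right_cancel₀ (leadingCoeff_ne_zero.2 hne) h1
    have h2 := transcendental_groupLike hg hg1 (P := X ^ i - X ^ j)
      (aeval_eq_zero_of_points fun h => by simp [hpow])
    have := congrArg (fun P : k[X] => P.coeff i) h2
    simp [coeff_X_pow, hij] at this
  have hQeq : Q = C (Q.coeff j) * Y ^ j := by
    ext i : 1
    rw [coeff_C_mul, coeff_X_pow]
    split_ifs with h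
    · rw [mul_one, h]
    · rw [mul_zero, hrest i h]
  refine hlead (transcendental_prim hx hx0 (aeval_eq_zero_of_points fun f => ?_))
  have := hS _ ⟨f, rfl⟩
  rw [hQeq, evalEval_mul, evalEval_C, evalEval_pow, evalEval_X] at this
  refine (mul_eq_zero.1 this).resolve_right (pow_ne_zero _ ?_)
  exact ((hg.isUnit (R := k)).map f.ofConv).ne_zero

/-- Two primitives satisfy an additive relation. -/
theorem exists_additive_relation (p : ℕ) [Fact p.Prime] [CharP k p] (hdim : ringKrullDim A = 1)
    {x y : A} (hx : Prim k x) (hy : Prim k y) :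
    ∃ (n m : ℕ) (a b : ℕ → k), ((∃ i < n, a i ≠ 0) ∨ ∃ i < m, b i ≠ 0) ∧
      ∑ i ∈ Finset.range n, a i • x ^ p ^ i + ∑ i ∈ Finset.range m, b i • y ^ p ^ i = 0 := by
  rcases eq_or_ne x 0 with rfl | hx0
  · exact ⟨1, 0, fun _ => 1, 0, .inl ⟨0, one_pos, one_ne_zero⟩, by simp⟩
  let S : Set (k × k) := Set.range fun f : G => (f.ofConv x, f.ofConv y)
  obtain ⟨Q₁, hQ₁, hS₁⟩ := exists_relation (k := k) hdim x y
  obtain ⟨Q, hQ, hS, hmin⟩ := exists_minimal (S := S) ⟨Q₁, hQ₁, by rintro _ ⟨f, rfl⟩; exact hS₁ f⟩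
  have hlead : Q.coeff Q.natDegree ≠ 0 := leadingCoeff_ne_zero.2 hQ
  have hj : Q.natDegree ≠ 0 := by
    intro h0
    refine hlead (transcendental_prim hx hx0 (aeval_eq_zero_of_points fun f => ?_))
    have := hS _ ⟨f, rfl⟩
    rw [eq_C_of_natDegree_eq_zero h0, evalEval_C] at this
    rwa [h0]
  -- invariance under the points
  have hinv : ∀ h : G, tr (h.ofConv x) (h.ofConv y) Q = Q := fun h => by
    refine sub_eq_zero.1 (hmin _ ?_ ?_ ?_)
    · rintro _ ⟨f, rfl⟩
      have h1 := hS _ ⟨f * h, rfl⟩
      have h2 := hS _ ⟨f, rfl⟩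
      simp only [hx.mul_apply, hy.mul_apply] at h1 h2
      rw [evalEval_sub, evalEval_tr, h1, h2, sub_zero]
    · exact (natDegree_sub_le _ _).trans (max_le (natDegree_tr_le _ _ _) le_rfl)
    · rw [coeff_sub, coeff_tr_natDegree]
      exact degree_comp_sub_lt hlead _
  have h1 := hS _ ⟨1, rfl⟩
  have hadd : ∀ a b c d : k, Q.evalEval (c + a) (d + b) = Q.evalEval a b + Q.evalEval c d := by
    intro a b c d
    have h0 : tr a b Q - Q - C (C (Q.evalEval a b)) = 0 := by
      refine hmin _ ?_ ?_ ?_
      · rintro _ ⟨f, rfl⟩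
        have h2 := hS _ ⟨f, rfl⟩
        have h3 := congrArg (fun P : k[X][Y] => P.evalEval a b) (hinv f)
        simp only [evalEval_tr] at h3
        rw [evalEval_sub, evalEval_sub, evalEval_tr, evalEval_C, eval_C, h2, add_comm (f.ofConv x),
          add_comm (f.ofConv y), h3]
        ring
      · refine (natDegree_sub_le _ _).trans (max_le ((natDegree_sub_le _ _).trans
          (max_le (natDegree_tr_le _ _ _) le_rfl)) (by simp))
      · rw [coeff_sub, coeff_sub, coeff_tr_natDegree, coeff_C, if_neg hj, sub_zero]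
        exact degree_comp_sub_lt hlead _
    have := congrArg (fun P : k[X][Y] => P.evalEval c d) h0
    simp only [evalEval_sub, evalEval_tr, evalEval_C, eval_C, evalEval_zero] at this
    linear_combination this
  let L : k[X] := Q.eval 0
  let M : k[X] := Q.map (evalRingHom 0)
  have hL : ∀ a, L.eval a = Q.evalEval a 0 := fun a => by simp [L, Polynomial.evalEval]
  have hM : ∀ b, M.eval b = Q.evalEval 0 b := fun b => map_evalRingHom_eval _ _ _
  obtain ⟨n, α, hα⟩ := exists_additive_coeffs p L fun a c => by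
    simp only [hL]; simpa [add_comm] using hadd a 0 c 0
  obtain ⟨m, β, hβ⟩ := exists_additive_coeffs p M fun b d => by
    simp only [hM]; simpa [add_comm] using hadd 0 b 0 d
  have hsplit : ∀ a b, Q.evalEval a b = L.eval a + M.eval b := fun a b => by
    rw [hL, hM]; simpa using hadd 0 b a 0 |>.trans (add_comm _ _)
  refine ⟨n, m, α, β, ?_, ?_⟩
  · by_contra hne
    push Not at hne
    refine hQ (eq_zero_of_evalEval fun a b => ?_)
    rw [hsplit, hα, hβ, Finset.sum_eq_zero fun i hi => by simp [hne.1 i (Finset.mem_range.1 hi)],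
      Finset.sum_eq_zero fun i hi => by simp [hne.2 i (Finset.mem_range.1 hi)]]
    simp
  · refine LieKolchinLib.eq_of_forall_point (k := k) fun f => ?_
    have := hS _ ⟨f, rfl⟩
    rw [hsplit, hα, hβ] at this
    simpa [eval_finsetSum] using this

end hopf

end Groth.Agent.GaGmClass
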