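import Mathlib
import Groth.Agent.GaGmClassLib.Basic
import Groth.Agent.UnipHopfLib.Points
import Groth.Agent.UnipHopfLib.Component
import Groth.Agent.S13358

/-!
One dimensional connected unipotent groups in positive characteristic are generated by one additive function.
-/

set_option autoImplicit false
set_option maxHeartbeats 1000000

noncomputable section

universe u

open TensorProduct HopfRep WithConv
open scoped ComodLib

namespace Groth.Agent.GaGmClass

attribute [local instance] LieKolchinLib.zTop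

variable {k : Type u} [Field k] {A : Type u} [CommRing A] [HopfAlgebra k A]

local notation "G" => WithConv (A →ₐ[k] k)

lemma Prim.add {x y : A} (hx : Prim k x) (hy : Prim k y) : Prim k (x + y) := by
  unfold Prim at *
  rw [map_add, hx, hy, add_tmul, tmul_add]
  abel

lemma Prim.smul {x : A} (c : k) (hx : Prim k x) : Prim k (c • x) := by
  unfold Prim at *
  rw [map_smul, hx, smul_add, smul_tmul', tmul_smul]

lemma prim_zero : Prim k (0 : A) := by simp [Prim]

lemma Prim.pow_char (p : ℕ) [Fact p.Prime] [CharP k p] {x : A} (hx : Prim k x) : Prim k (x ^ p) := by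
  have : Nontrivial (A ⊗[k] A) := (pair (1 : G) 1).toRingHom.domain_nontrivial
  have : CharP (A ⊗[k] A) p := charP_of_injective_algebraMap (algebraMap k (A ⊗[k] A)).injective p
  unfold Prim at *
  rw [Bialgebra.comul_pow, hx, add_pow_char, Algebra.TensorProduct.tmul_pow,
    Algebra.TensorProduct.tmul_pow, one_pow]

lemma Prim.pow_char_pow (p : ℕ) [Fact p.Prime] [CharP k p] {x : A} (hx : Prim k x) :
    ∀ i, Prim k (x ^ p ^ i)
  | 0 => by simpa using hx
  | i + 1 => by rw [pow_succ, pow_mul]; exact (hx.pow_char_pow p i).pow_char p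

variable [IsAlgClosed k] [Algebra.FiniteType k A] [IsReduced A] [IsDomain A]

/-- In characteristic `p` every point of a one dimensional unipotent group has order dividing `p`. -/
theorem pow_p_eq_one (p : ℕ) [Fact p.Prime] [CharP k p] (hdim : ringKrullDim A = 1)
    (hconn : ∀ e : A, IsIdempotentElem e → e = 0 ∨ e = 1)
    (hK : ∀ a : A, ∃ n, a ∈ UnipHopf.K k A n) {x : A} (hx : Prim k x) (hx0 : x ≠ 0) (g : G) :
    g ^ p = 1 := by
  have : Ring.KrullDimLE 1 A := Ring.krullDimLE_iff.2 hdim.le
  let U : WithConv (A →ₐ[k] A) := LieKolchinLib.gen ^ p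
  have hU : ∀ h : G, LieKolchinLib.evalHom h U = h ^ p := fun h => by
    simp only [U, map_pow, LieKolchinLib.evalHom_gen]
  have hcont : Continuous fun h : G => h ^ p := by
    simpa only [hU] using LieKolchinLib.continuous_word U
  rcases LieKolchinLib.dense_or_subsingleton hconn
    ((LieKolchinLib.isPreconnected_univ hconn).image _ hcont.continuousOn) with hd | hs
  · exfalso
    obtain ⟨N, hN⟩ := UnipHopf.exists_pow_eq_one p hK
    have hdense : ∀ n, ∀ a : A, (∀ h : G, (h ^ p ^ n).ofConv a = 0) → a = 0 := by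
      intro n
      induction n with
      | zero =>
        intro a ha
        exact LieKolchinLib.eq_of_forall_point (k := k) fun h => by simpa using ha h
      | succ n ih =>
        intro a ha
        refine hd a ?_
        have h0 : U.ofConv a = 0 := ih _ fun h => by
          have := ha h
          rw [pow_succ, pow_mul, ← hU] at this
          exact this
        rintro _ ⟨h, -, rfl⟩
        show (h ^ p).ofConv a = 0
        rw [← hU]
        show h.ofConv (U.ofConv a) = 0
        rw [h0, map_zero]
    refine hx0 (hdense N x fun h => ?_)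
    rw [hN]
    have := hx.mul_apply (1 : G) 1
    rwa [one_mul, left_eq_add] at this
  · exact hs ⟨g, trivial, rfl⟩ ⟨1, trivial, one_pow p⟩

/-- Euclid's algorithm for additive relations. -/
lemma exists_common_aux (p : ℕ) [Fact p.Prime] [CharP k p] :
    ∀ (s n m : ℕ), n + m = s → ∀ (x y : A), Prim k x → Prim k y → ∀ a b : ℕ → k,
      ((∃ i < n, a i ≠ 0) ∨ ∃ i < m, b i ≠ 0) →
      ∑ i ∈ Finset.range n, a i • x ^ p ^ i + ∑ i ∈ Finset.range m, b i • y ^ p ^ i = 0 →
      ∃ z, Prim k z ∧ x ∈ Algebra.adjoin k {z} ∧ y ∈ Algebra.adjoin k {z} := by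
  have halg : ∀ (w : A) (m : ℕ) (b : ℕ → k), Prim k w → (∃ i < m, b i ≠ 0) →
      ∑ i ∈ Finset.range m, b i • w ^ p ^ i = 0 → w = 0 := by
    intro w m b hw hne h
    by_contra h0
    have hP := transcendental_prim hw h0
      (P := ∑ i ∈ Finset.range m, Polynomial.C (b i) * Polynomial.X ^ p ^ i)
      (by simpa [Algebra.smul_def] using h)
    obtain ⟨i, hi, hbi⟩ := hne
    have := congrArg (fun P : Polynomial k => P.coeff (p ^ i)) hP
    simp only [Polynomial.finsetSum_coeff, Polynomial.coeff_C_mul, Polynomial.coeff_X_pow, Polynomial.coeff_zero] at this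
    rw [Finset.sum_eq_single i (fun j _ hj => by
      rw [if_neg (fun e => hj (Nat.pow_right_injective (Fact.out (p := p.Prime)).two_le e.symm)), mul_zero])
      (fun h => absurd (Finset.mem_range.2 hi) h), if_pos rfl, mul_one] at this
    exact hbi this
  intro s
  induction s using Nat.strong_induction_on with
  | _ s ih =>
  intro n m hs x y hx hy a b hne hrel
  have hsym : ∀ (z : A), Prim k z ∧ y ∈ Algebra.adjoin k {z} ∧ x ∈ Algebra.adjoin k {z} →
      ∃ z, Prim k z ∧ x ∈ Algebra.adjoin k {z} ∧ y ∈ Algebra.adjoin k {z} := fun z h => ⟨z, h.1, h.2.2, h.2.1⟩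
  cases n with
  | zero =>
    have hy0 : y = 0 := halg y m b hy (hne.resolve_left (by simp)) (by simpa using hrel)
    exact ⟨x, hx, Algebra.self_mem_adjoin_singleton k x, hy0 ▸ zero_mem _⟩
  | succ n =>
  cases m with
  | zero =>
    have hx0 : x = 0 := halg x _ a hx (hne.resolve_right (by simp)) (by simpa using hrel)
    exact ⟨y, hy, hx0 ▸ zero_mem _, Algebra.self_mem_adjoin_singleton k y⟩
  | succ m =>
  by_cases han : a n = 0
  · refine ih (n + (m + 1)) (by omega) n (m + 1) rfl x y hx hy a b ?_ ?_
    · refine hne.imp_left fun ⟨i, hi, h⟩ => ⟨i, ?_, h⟩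
      rcases Nat.lt_succ_iff_lt_or_eq.1 hi with h' | h'
      · exact h'
      · exact absurd (h' ▸ han) h
    · rwa [Finset.sum_range_succ _ n, han, zero_smul, add_zero] at hrel
  by_cases hbm : b m = 0
  · refine ih (n + 1 + m) (by omega) (n + 1) m rfl x y hx hy a b ?_ ?_
    · refine hne.imp_right fun ⟨i, hi, h⟩ => ⟨i, ?_, h⟩
      rcases Nat.lt_succ_iff_lt_or_eq.1 hi with h' | h'
      · exact h'
      · exact absurd (h' ▸ hbm) h
    · rwa [Finset.sum_range_succ _ m, hbm, zero_smul, add_zero] at hrel
  -- eliminate the top term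
  have step : ∀ (n m : ℕ), n + 1 + (m + 1) = s → m ≤ n → ∀ (x y : A), Prim k x → Prim k y → ∀ a b : ℕ → k,
      b m ≠ 0 →
      ∑ i ∈ Finset.range (n + 1), a i • x ^ p ^ i + ∑ i ∈ Finset.range (m + 1), b i • y ^ p ^ i = 0 →
      ∃ z, Prim k z ∧ x ∈ Algebra.adjoin k {z} ∧ y ∈ Algebra.adjoin k {z} := by
    intro n m hs hmn x y hx hy a b hb hrel
    obtain ⟨c, hc⟩ := IsAlgClosed.exists_pow_nat_eq (a n / b m) (pow_pos (Fact.out (p := p.Prime)).pos m)
    let d := n - m
    let y' := y + c • x ^ p ^ d
    let a' : ℕ → k := fun j => a j - if d ≤ j then b (j - d) * c ^ p ^ (j - d) else 0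
    have hy' : ∀ i, y' ^ p ^ i = y ^ p ^ i + c ^ p ^ i • x ^ p ^ (d + i) := fun i => by
      have : CharP A p := charP_of_injective_algebraMap (algebraMap k A).injective p
      simp only [y', add_pow_char_pow, smul_pow, ← pow_mul, ← pow_add]
    have htop : a' n = 0 := by
      show a n - _ = 0
      rw [if_pos (by omega), show n - d = m by omega, hc, mul_div_cancel₀ _ hb, sub_self]
    have hrel' : ∑ i ∈ Finset.range n, a' i • x ^ p ^ i + ∑ i ∈ Finset.range (m + 1), b i • y' ^ p ^ i = 0 := by
      have h1 : ∑ i ∈ Finset.range (m + 1), b i • y' ^ p ^ i = ∑ i ∈ Finset.range (m + 1), b i • y ^ p ^ i +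
          ∑ i ∈ Finset.range (m + 1), (b i * c ^ p ^ i) • x ^ p ^ (d + i) := by
        simp only [hy', smul_add, smul_smul, Finset.sum_add_distrib]
      have h2 : ∑ i ∈ Finset.range (n + 1), (if d ≤ i then b (i - d) * c ^ p ^ (i - d) else 0) • x ^ p ^ i =
          ∑ i ∈ Finset.range (m + 1), (b i * c ^ p ^ i) • x ^ p ^ (d + i) := by
        rw [show n + 1 = d + (m + 1) by omega, Finset.sum_range_add,
          Finset.sum_eq_zero (s := Finset.range d) (fun i hi => by
            rw [if_neg (by have := Finset.mem_range.1 hi; omega), zero_smul]), zero_add]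
        exact Finset.sum_congr rfl fun i _ => by rw [if_pos (by omega), Nat.add_sub_cancel_left]
      have h3 : ∑ i ∈ Finset.range n, a' i • x ^ p ^ i = ∑ i ∈ Finset.range (n + 1), a' i • x ^ p ^ i := by
        rw [Finset.sum_range_succ, htop, zero_smul, add_zero]
      rw [h3, h1, ← h2]
      simp only [a', sub_smul, Finset.sum_sub_distrib]
      linear_combination (norm := abel) hrel
    obtain ⟨z, hz, hxz, hyz⟩ := ih (n + (m + 1)) (by omega) n (m + 1) rfl x y' hx
      (hy.add ((hx.pow_char_pow p d).smul c)) a' b (.inr ⟨m, Nat.lt_succ_self m, hb⟩) hrel'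
    refine ⟨z, hz, hxz, ?_⟩
    have e : y = y' - c • x ^ p ^ d := by simp [y']
    rw [e]
    exact sub_mem hyz (Subalgebra.smul_mem _ (pow_mem hxz _) c)
  rcases le_total m n with hle | hle
  · exact step n m hs hle x y hx hy a b hbm hrel
  · obtain ⟨z, hz⟩ := step m n (by omega) hle y x hy hx b a han (by rw [add_comm]; exact hrel)
    exact hsym z hz

/-- Two primitives are polynomials in a third one. -/
theorem exists_common (p : ℕ) [Fact p.Prime] [CharP k p] (hdim : ringKrullDim A = 1) {x y : A}
    (hx : Prim k x) (hy : Prim k y) :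
    ∃ z, Prim k z ∧ x ∈ Algebra.adjoin k {z} ∧ y ∈ Algebra.adjoin k {z} := by
  obtain ⟨n, m, a, b, hne, hrel⟩ := exists_additive_relation p hdim hx hy
  exact exists_common_aux p _ n m rfl x y hx hy a b hne hrel

omit [IsReduced A] [IsDomain A] in
lemma Prim.pow_apply {x : A} (hx : Prim k x) (g : G) (m : ℕ) : (g ^ m).ofConv x = m * g.ofConv x := by
  induction m with
  | zero =>
    have := hx.mul_apply (1 : G) 1
    rw [one_mul, left_eq_add] at this
    simp [this]
  | succ m ih => rw [pow_succ, hx.mul_apply, ih]; push_cast; ring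

lemma sum_pow_eq (p : ℕ) [Fact p.Prime] :
    (∑ m ∈ Finset.range p, ∑ j ∈ Finset.Ioo 0 p, p.choose j / p * m ^ j) + 1 = p ^ (p - 1) := by
  have hp : p.Prime := Fact.out
  apply Nat.eq_of_mul_eq_mul_left hp.pos
  rw [mul_add, mul_one, ← pow_succ', Nat.sub_add_cancel hp.one_le, Finset.mul_sum]
  have h1 : ∀ m : ℕ, p * ∑ j ∈ Finset.Ioo 0 p, p.choose j / p * m ^ j + m ^ p + 1 = (m + 1) ^ p := fun m => by
    rw [add_pow, Finset.sum_range_succ, show Finset.range p = insert 0 (Finset.Ioo 0 p) by
      ext i; simp only [Finset.mem_range, Finset.mem_insert, Finset.mem_Ioo]; have := hp.pos; omega,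
      Finset.sum_insert (by simp), Finset.mul_sum, Finset.sum_congr rfl fun j hj => ?_]
    · simp; ring
    · obtain ⟨hj0, hjp⟩ := Finset.mem_Ioo.1 hj
      rw [← mul_assoc, Nat.mul_div_cancel' (hp.dvd_choose_self hj0.ne' hjp), mul_comm]
  have h2 := Finset.sum_congr rfl (s₁ := Finset.range p) (fun m _ => h1 m)
  simp only [Finset.sum_add_distrib, Finset.sum_const, Finset.card_range, smul_eq_mul, mul_one] at h2
  have h3 := Finset.sum_range_succ' (fun m : ℕ => m ^ p) p
  rw [Finset.sum_range_succ, ← h2, zero_pow hp.ne_zero, add_zero] at h3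
  simp only [Finset.mul_sum] at h3 ⊢
  omega

lemma ne_zero_of_mem_adjoin {x z : A} (hx : Prim k x) (hx0 : x ≠ 0) (h : x ∈ Algebra.adjoin k {z}) : z ≠ 0 := by
  rintro rfl
  rw [Algebra.adjoin_singleton_eq_range_aeval] at h
  obtain ⟨P, hP⟩ := h
  have hP' : Polynomial.aeval (0 : A) P = x := hP
  rw [← map_zero (algebraMap k A), Polynomial.aeval_algebraMap_apply] at hP'
  have := UnipHopf.counit_primitive hx
  rw [← hP', Bialgebra.counit_algebraMap] at this
  exact hx0 (by rw [← hP', this, map_zero])

lemma merge (p : ℕ) [Fact p.Prime] [CharP k p] (hdim : ringKrullDim A = 1) {x y : A}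
    (hx : Prim k x) (hx0 : x ≠ 0) (hy : Prim k y) :
    ∃ z, Prim k z ∧ z ≠ 0 ∧ Algebra.adjoin k {x} ≤ Algebra.adjoin k {z} ∧
      Algebra.adjoin k {y} ≤ Algebra.adjoin k {z} := by
  obtain ⟨z, hz, hxz, hyz⟩ := exists_common p hdim hx hy
  exact ⟨z, hz, ne_zero_of_mem_adjoin hx hx0 hxz, Algebra.adjoin_le (by simpa using hxz),
    Algebra.adjoin_le (by simpa using hyz)⟩

open MvPolynomial in
/-- One step up the socle filtration. -/
lemma exists_cover_step (p : ℕ) [Fact p.Prime] [CharP k p] [Coalgebra.IsCocomm k A] (hdim : ringKrullDim A = 1)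
    (hpow : ∀ g : G, g ^ p = 1) {z : A} (hz : Prim k z) (hz0 : z ≠ 0) {a : A}
    (hd : CoalgebraStruct.comul (R := k) a - a ⊗ₜ[k] (1 : A) - (1 : A) ⊗ₜ[k] a ∈
      LinearMap.range ((Subalgebra.toSubmodule (Algebra.adjoin k {z})).subtype.rTensor A)) :
    ∃ z', Prim k z' ∧ z' ≠ 0 ∧ a ∈ Algebra.adjoin k {z'} := by
  classical
  set d := CoalgebraStruct.comul (R := k) a - a ⊗ₜ[k] (1 : A) - (1 : A) ⊗ₜ[k] a with hdd
  let B := Subalgebra.toSubmodule (Algebra.adjoin k {z})
  obtain ⟨π, hπ⟩ := LinearMap.exists_leftInverse_of_injective B.subtype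
    (LinearMap.ker_eq_bot.2 Subtype.val_injective)
  let e : A →ₗ[k] A := B.subtype ∘ₗ π
  have he : ∀ b : B, e b = b := fun b => congrArg Subtype.val (LinearMap.congr_fun hπ b)
  have hcomm : TensorProduct.comm k A A d = d := by
    rw [hdd, map_sub, map_sub, Coalgebra.comm_comul, TensorProduct.comm_tmul, TensorProduct.comm_tmul]
    abel
  have hr : e.rTensor A d = d := by
    obtain ⟨w, hw⟩ := hd
    rw [← hw]
    clear hw
    induction w using TensorProduct.induction_on with
    | zero => simp
    | add u v hu hv => rw [map_add, map_add, hu, hv]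
    | tmul b c => simp [he]
  have hl : e.lTensor A d = d := by
    conv_lhs => rw [← hcomm]
    conv_rhs => rw [← hcomm, ← hr]
    generalize d = w
    induction w using TensorProduct.induction_on with
    | zero => simp
    | add u v hu hv => simp only [map_add, hu, hv]
    | tmul b c => simp
  have hpoly : ∀ w : A ⊗[k] A, ∃ F : MvPolynomial (Fin 2) k,
      TensorProduct.map e e w = MvPolynomial.aeval ![z ⊗ₜ[k] (1 : A), (1 : A) ⊗ₜ[k] z] F := by
    intro w
    induction w using TensorProduct.induction_on with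
    | zero => exact ⟨0, by simp⟩
    | add u v hu hv =>
      obtain ⟨F, hF⟩ := hu
      obtain ⟨F', hF'⟩ := hv
      exact ⟨F + F', by simp [hF, hF']⟩
    | tmul u v =>
      have hP : ∀ u, ∃ P : Polynomial k, Polynomial.aeval z P = e u := fun u => by
        have h : e u ∈ Algebra.adjoin k {z} := (π u).2
        rwa [Algebra.adjoin_singleton_eq_range_aeval] at h
      obtain ⟨P, hP⟩ := hP u
      obtain ⟨Q, hQ⟩ := ‹∀ u, ∃ P : Polynomial k, Polynomial.aeval z P = e u› v
      refine ⟨Polynomial.aeval (MvPolynomial.X 0) P * Polynomial.aeval (MvPolynomial.X 1) Q, ?_⟩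
      rw [map_mul, ← Polynomial.aeval_algHom_apply, ← Polynomial.aeval_algHom_apply, MvPolynomial.aeval_X,
        MvPolynomial.aeval_X]
      show e u ⊗ₜ[k] e v = Polynomial.aeval (Algebra.TensorProduct.includeLeft (R := k) (S := k) (A := A) (B := A) z) P *
        Polynomial.aeval (Algebra.TensorProduct.includeRight (R := k) (A := A) (B := A) z) Q
      rw [Polynomial.aeval_algHom_apply, Polynomial.aeval_algHom_apply, hP, hQ]
      simp
  obtain ⟨F, hF⟩ := hpoly d
  rw [show TensorProduct.map e e d = d by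
    rw [← LinearMap.lTensor_comp_rTensor, LinearMap.comp_apply, hr, hl]] at hF
  -- the cocycle as a function
  have hev : ∀ g h : G, (g * h).ofConv a - g.ofConv a - h.ofConv a =
      MvPolynomial.eval ![g.ofConv z, h.ofConv z] F := fun g h => by
    have := congrArg (pair g h) hF
    rw [hdd, map_sub, map_sub, ← mul_apply, ← AlgHom.comp_apply, MvPolynomial.comp_aeval] at this
    simp only [pair, Algebra.TensorProduct.productMap_apply_tmul, map_one, mul_one, one_mul] at this
    rw [this, ← MvPolynomial.aeval_eq_eval]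
    congr 2
    funext i
    fin_cases i <;> simp [pair]
  have hmc : ∀ g h : G, (g * h).ofConv a = (h * g).ofConv a := fun g h => by
    rw [mul_apply, mul_apply]
    conv_rhs => rw [← Coalgebra.comm_comul k a]
    generalize CoalgebraStruct.comul (R := k) a = w
    induction w using TensorProduct.induction_on with
    | zero => simp
    | add u v hu hv => simp only [map_add, hu, hv]
    | tmul u v => simp [pair, mul_comm]
  have hinf : (Set.range fun g : G => g.ofConv z).Infinite := fun hfin => by
    have h := transcendental_prim hz hz0 (P := ∏ c ∈ hfin.toFinset, (Polynomial.X - Polynomial.C c))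
      (aeval_eq_zero_of_points fun g => by
        rw [Polynomial.eval_prod]
        exact Finset.prod_eq_zero (i := g.ofConv z) (hfin.mem_toFinset.2 ⟨g, rfl⟩) (by simp))
    exact (Polynomial.monic_prod_of_monic _ _ fun c _ => Polynomial.monic_X_sub_C c).ne_zero h
  have hcoc := (Groth.Agent.S13358.result p k F).1 ⟨?_, ?_⟩
  rotate_left
  · refine MvPolynomial.funext_set _ (fun _ => hinf) fun v hv => ?_
    obtain ⟨g, hg⟩ := hv 0 trivial
    obtain ⟨h, hh⟩ := hv 1 trivial
    have hv' : v = ![g.ofConv z, h.ofConv z] := by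
      funext i; fin_cases i <;> [exact hg.symm; exact hh.symm]
    subst hv'
    rw [← MvPolynomial.aeval_eq_eval, ← AlgHom.comp_apply, MvPolynomial.comp_aeval, MvPolynomial.aeval_eq_eval]
    rw [show (fun i => (MvPolynomial.aeval ![g.ofConv z, h.ofConv z])
        ((![MvPolynomial.X 1, MvPolynomial.X 0] : Fin 2 → MvPolynomial (Fin 2) k) i)) = ![h.ofConv z, g.ofConv z] by
      funext i; fin_cases i <;> simp]
    simp only [MvPolynomial.aeval_eq_eval]
    rw [← hev, ← hev, hmc]
    ring
  · refine MvPolynomial.funext_set _ (fun _ => hinf) fun v hv => ?_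
    obtain ⟨f, hf⟩ := hv 0 trivial
    obtain ⟨g, hg⟩ := hv 1 trivial
    obtain ⟨h, hh⟩ := hv 2 trivial
    have hv' : v = ![f.ofConv z, g.ofConv z, h.ofConv z] := by
      funext i; fin_cases i <;> [exact hf.symm; exact hg.symm; exact hh.symm]
    subst hv'
    have hsub : ∀ (u : Fin 2 → MvPolynomial (Fin 3) k) (w : Fin 2 → k),
        (fun i => MvPolynomial.eval ![f.ofConv z, g.ofConv z, h.ofConv z] (u i)) = w →
        MvPolynomial.eval ![f.ofConv z, g.ofConv z, h.ofConv z] (MvPolynomial.aeval u F) = MvPolynomial.eval w F := by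
      intro u w hw
      rw [← MvPolynomial.aeval_eq_eval, ← AlgHom.comp_apply, MvPolynomial.comp_aeval, MvPolynomial.aeval_eq_eval]
      simp only [MvPolynomial.aeval_eq_eval, hw]
    rw [map_zero, map_sub, map_sub, map_add,
      hsub _ ![f.ofConv z, (g * h).ofConv z] (by funext i; fin_cases i <;> simp [hz.mul_apply]),
      hsub _ ![g.ofConv z, h.ofConv z] (by funext i; fin_cases i <;> simp),
      hsub _ ![(f * g).ofConv z, h.ofConv z] (by funext i; fin_cases i <;> simp [hz.mul_apply]),
      hsub _ ![f.ofConv z, g.ofConv z] (by funext i; fin_cases i <;> simp), ← hev, ← hev, ← hev, ← hev, mul_assoc]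
    ring
  obtain ⟨Gp, N, r, hFeq⟩ := hcoc
  let a' := a - Polynomial.aeval z Gp
  have hE : ∀ g h : G, (g * h).ofConv a' - g.ofConv a' - h.ofConv a' = ∑ i ∈ Finset.range N, r i *
      ∑ j ∈ Finset.Ioo 0 p, ((p.choose j / p : ℕ) : k) * (g.ofConv z ^ p ^ i) ^ j * (h.ofConv z ^ p ^ i) ^ (p - j) := by
    intro g h
    have hpev : ∀ (q : MvPolynomial (Fin 2) k), MvPolynomial.eval ![g.ofConv z, h.ofConv z] (Polynomial.aeval q Gp) =
        Gp.eval (MvPolynomial.eval ![g.ofConv z, h.ofConv z] q) := fun q => by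
      rw [← MvPolynomial.aeval_eq_eval, ← Polynomial.aeval_algHom_apply, Polynomial.coe_aeval_eq_eval]
    have := hev g h
    rw [hFeq] at this
    simp only [map_add, map_sub, map_sum, map_mul, hpev, MvPolynomial.eval_C, MvPolynomial.eval_X] at this
    simp only [a', map_sub, ← Polynomial.aeval_algHom_apply, Polynomial.coe_aeval_eq_eval, hz.mul_apply]
    simp only [Matrix.cons_val_zero, Matrix.cons_val_one] at this
    have key : ∀ i, MvPolynomial.eval ![g.ofConv z, h.ofConv z] (MvPolynomial.C ((p.choose i / p : ℕ) : k)) =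
        ((p.choose i / p : ℕ) : k) := fun i => by simp
    simp only [MvPolynomial.aeval_C, MvPolynomial.aeval_X, map_pow, map_natCast, MvPolynomial.eval_X,
      Matrix.cons_val_zero, Matrix.cons_val_one] at this
    linear_combination this
  -- evaluation on multiples kills the Witt part
  have hr0 : ∀ g : G, ∑ i ∈ Finset.range N, r i * g.ofConv z ^ p ^ (i + 1) = 0 := fun g => by
    have hp : p.Prime := Fact.out
    have hone : (1 : G).ofConv a' = 0 := by
      have := hE 1 1
      rw [one_mul, sub_self, zero_sub, Finset.sum_eq_zero fun i _ => by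
        rw [Finset.sum_eq_zero fun j hj => by
          have hz1 : (1 : G).ofConv z = 0 := by simpa using hz.pow_apply (1 : G) 0
          rw [hz1, zero_pow (pow_ne_zero _ hp.ne_zero), zero_pow (Finset.mem_Ioo.1 hj).1.ne', mul_zero, zero_mul],
          mul_zero]] at this
      exact neg_eq_zero.1 this
    have h1 : ∑ m ∈ Finset.range p, ((g ^ m * g).ofConv a' - (g ^ m).ofConv a' - g.ofConv a') = 0 := by
      simp only [← pow_succ, Finset.sum_sub_distrib, Finset.sum_const, Finset.card_range]
      rw [← Finset.sum_sub_distrib, Finset.sum_range_sub (fun m => (g ^ m).ofConv a'), hpow g, pow_zero, sub_self,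
        nsmul_eq_mul, CharP.cast_eq_zero, zero_mul, sub_zero]
    rw [Finset.sum_congr rfl fun m _ => hE (g ^ m) g, Finset.sum_comm] at h1
    have hW : (∑ m ∈ Finset.range p, ∑ j ∈ Finset.Ioo 0 p, ((p.choose j / p : ℕ) : k) * (m : k) ^ j) = -1 := by
      have := congrArg (Nat.cast (R := k)) (sum_pow_eq p)
      push_cast at this
      rw [CharP.cast_eq_zero, zero_pow (by have := hp.two_le; omega)] at this
      exact eq_neg_of_add_eq_zero_left this
    have hterm : ∀ i, ∑ m ∈ Finset.range p, r i * ∑ j ∈ Finset.Ioo 0 p, ((p.choose j / p : ℕ) : k) *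
        ((g ^ m).ofConv z ^ p ^ i) ^ j * (g.ofConv z ^ p ^ i) ^ (p - j) = -(r i * g.ofConv z ^ p ^ (i + 1)) := by
      intro i
      have hm : ∀ m : ℕ, ((m : k) ^ p ^ i) = m := fun m => by
        rw [← iterateFrobenius_def, map_natCast]
      rw [← neg_one_mul, ← hW, Finset.sum_mul]
      refine Finset.sum_congr rfl fun m _ => ?_
      rw [Finset.mul_sum, Finset.sum_mul]
      refine Finset.sum_congr rfl fun j hj => ?_
      rw [hz.pow_apply, mul_pow, hm, mul_pow, pow_succ p i, pow_mul (g.ofConv z) (p ^ i) p]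
      have hjp : j + (p - j) = p := by have := (Finset.mem_Ioo.1 hj).2; omega
      conv_rhs => rw [← hjp, pow_add, hjp]
      ring
    rw [Finset.sum_congr rfl fun i _ => hterm i, Finset.sum_neg_distrib, neg_eq_zero] at h1
    exact h1
  have hr : ∀ i ∈ Finset.range N, r i = 0 := fun i hi => by
    have h := transcendental_prim hz hz0
      (P := ∑ i ∈ Finset.range N, Polynomial.C (r i) * Polynomial.X ^ p ^ (i + 1))
      (aeval_eq_zero_of_points fun g => by simpa [Polynomial.eval_finsetSum] using hr0 g)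
    have := congrArg (fun P : Polynomial k => P.coeff (p ^ (i + 1))) h
    simp only [Polynomial.finsetSum_coeff, Polynomial.coeff_C_mul, Polynomial.coeff_X_pow, Polynomial.coeff_zero] at this
    rw [Finset.sum_eq_single i (fun j _ hj => by
      rw [if_neg (fun e => hj (by have := Nat.pow_right_injective (Fact.out (p := p.Prime)).two_le e; omega)), mul_zero])
      (fun h => absurd hi h), if_pos rfl, mul_one] at this
    exact this
  have hprim : Prim k a' := prim_of_points fun g h => by
    have := hE g h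
    rw [Finset.sum_eq_zero fun i hi => by rw [hr i hi, zero_mul]] at this
    linear_combination this
  obtain ⟨z', hz', hz'0, hle, hle'⟩ := merge p hdim hz hz0 hprim
  refine ⟨z', hz', hz'0, ?_⟩
  have e : a = a' + Polynomial.aeval z Gp := by simp [a']
  rw [e]
  exact add_mem (hle' (Algebra.self_mem_adjoin_singleton k a'))
    (hle (Polynomial.aeval_mem_adjoin_singleton k z))

/-- The whole ring is generated by one primitive. -/
theorem exists_generator (p : ℕ) [Fact p.Prime] [CharP k p] [Coalgebra.IsCocomm k A] (hdim : ringKrullDim A = 1)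
    (hconn : ∀ e : A, IsIdempotentElem e → e = 0 ∨ e = 1)
    (hK : ∀ a : A, ∃ n, a ∈ UnipHopf.K k A n) {x : A} (hx : Prim k x) (hx0 : x ≠ 0) :
    ∃ z : A, Prim k z ∧ z ≠ 0 ∧ Algebra.adjoin k {z} = ⊤ := by
  classical
  have hpow := pow_p_eq_one p hdim hconn hK hx hx0
  have key : ∀ n, ∀ s : Finset A, (∀ a ∈ s, a ∈ UnipHopf.K k A n) →
      ∃ z : A, Prim k z ∧ z ≠ 0 ∧ ∀ a ∈ s, a ∈ Algebra.adjoin k {z} := by
    intro n
    induction n with
    | zero =>
      intro s hs
      refine ⟨x, hx, hx0, fun a ha => ?_⟩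
      have := hs a ha
      rw [UnipHopf.K_zero, Submodule.mem_bot] at this
      exact this ▸ zero_mem _
    | succ n ih =>
      intro s
      induction s using Finset.induction_on with
      | empty => exact fun _ => ⟨x, hx, hx0, by simp⟩
      | insert a s has ihs =>
        intro hs
        obtain ⟨z₁, hz₁, hz₁0, hcov⟩ := ihs fun b hb => hs b (Finset.mem_insert_of_mem hb)
        have ha := hs a (Finset.mem_insert_self a s)
        obtain ⟨z₂, hz₂, -, ha₂⟩ : ∃ z, Prim k z ∧ z ≠ 0 ∧ a ∈ Algebra.adjoin k {z} := by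
          rcases Nat.eq_zero_or_pos n with rfl | hn
          · refine ⟨x, hx, hx0, ?_⟩
            rw [UnipHopf.eq_counit_smul_one_of_mem_K_one ha]
            exact Subalgebra.smul_mem _ (one_mem _) _
          · have h1 : (1 : A) ∈ UnipHopf.K k A n := UnipHopf.K_mono hn UnipHopf.one_mem_K_one
            have hd : CoalgebraStruct.comul (R := k) a - a ⊗ₜ[k] (1 : A) - (1 : A) ⊗ₜ[k] a ∈
                LinearMap.range ((UnipHopf.K k A n).subtype.rTensor A) :=
              sub_mem (UnipHopf.coact_sub_mem_of_mem_soc ha) ⟨⟨1, h1⟩ ⊗ₜ[k] a, rfl⟩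
            obtain ⟨w, hw⟩ := hd
            obtain ⟨S, rfl⟩ := TensorProduct.exists_finset w
            obtain ⟨z, hz, hz0, hz'⟩ := ih (S.image fun i => (i.1 : A)) fun b hb => by
              obtain ⟨i, -, rfl⟩ := Finset.mem_image.1 hb
              exact i.1.2
            refine exists_cover_step p hdim hpow hz hz0 ?_
            rw [← hw, map_sum]
            exact Submodule.sum_mem _ fun i hi =>
              ⟨⟨(i.1 : A), hz' _ (Finset.mem_image_of_mem _ hi)⟩ ⊗ₜ[k] i.2, rfl⟩
        obtain ⟨z, hz, hz0, hle, hle'⟩ := merge p hdim hz₁ hz₁0 hz₂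
        refine ⟨z, hz, hz0, fun b hb => ?_⟩
        rcases Finset.mem_insert.1 hb with rfl | hb
        · exact hle' ha₂
        · exact hle (hcov b hb)
  obtain ⟨s, hs⟩ := Algebra.FiniteType.out (R := k) (A := A)
  choose d hd using hK
  obtain ⟨z, hz, hz0, hcov⟩ := key (s.sup d) s fun a ha => UnipHopf.K_mono (Finset.le_sup ha) (hd a)
  exact ⟨z, hz, hz0, top_le_iff.1 (hs ▸ Algebra.adjoin_le hcov)⟩

end Groth.Agent.GaGmClass
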