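import Mathlib
import Groth.Agent.GaGmClassLib.CharP
import Groth.Agent.HopfFFLib.Consequences
import Groth.Agent.HopfFFLib.SubHopf
import Groth.Agent.GrpSchLib.HopfReduced

/-!
One dimensional connected unipotent groups in characteristic zero are generated by any additive function.
-/

set_option autoImplicit false
set_option maxHeartbeats 1000000

noncomputable section

universe u

open TensorProduct HopfRep WithConv
open scoped ComodLib

namespace Groth.Agent.GaGmClass

variable {k : Type u} [Field k] {A : Type u} [CommRing A] [HopfAlgebra k A]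

local notation "G" => WithConv (A →ₐ[k] k)

lemma isSubHopf_adjoin_prim {x : A} (hx : Prim k x) : HopfFF.IsSubHopf k A (Algebra.adjoin k {x}) := by
  let B := Algebra.adjoin k {x}
  have hxB : x ∈ B := Algebra.self_mem_adjoin_singleton k x
  refine ⟨fun b hb => ?_, fun b hb => ?_⟩
  · have hle : B ≤ (Algebra.TensorProduct.map B.val B.val).range.comap (Bialgebra.comulAlgHom k A) := by
      refine Algebra.adjoin_le ?_
      rw [Set.singleton_subset_iff]
      exact ⟨(⟨x, hxB⟩ : B) ⊗ₜ[k] 1 + 1 ⊗ₜ[k] (⟨x, hxB⟩ : B), by simpa using hx.symm⟩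
    exact hle hb
  · have hle : B ≤ B.comap (HopfAlgebra.antipodeAlgHom k A) := by
      refine Algebra.adjoin_le ?_
      rw [Set.singleton_subset_iff]
      show HopfAlgebraStruct.antipode (R := k) x ∈ B
      rw [UnipHopf.antipode_primitive hx]
      exact neg_mem hxB
    exact hle hb

variable [IsAlgClosed k] [Algebra.FiniteType k A] [IsReduced A] [IsDomain A] [CharZero k]

/-- In characteristic zero the only point killed by a nonzero primitive is the unit. -/
theorem eq_one_of_prim_eq_zero (hdim : ringKrullDim A = 1)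
    (hK : ∀ a : A, ∃ n, a ∈ UnipHopf.K k A n) {x : A} (hx : Prim k x) (hx0 : x ≠ 0) (g : G)
    (hg : g.ofConv x = 0) : g = 1 := by
  have : Ring.KrullDimLE 1 A := Ring.krullDimLE_iff.2 hdim.le
  obtain ⟨φ, hφ⟩ := UnipHopf.exists_path hK g
  have hφx : φ x = 0 := UnipHopf.poly_ext fun m => by
    rw [hφ, Polynomial.eval_zero]
    show (g ^ m).ofConv x = 0
    rw [hx.pow_apply, hg, mul_zero]
  let P := RingHom.ker φ
  have : P.IsPrime := RingHom.ker_isPrime φ
  have hP : P ≠ ⊥ := fun h => hx0 (by
    have : x ∈ P := hφx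
    rwa [h] at this)
  have : P.IsMaximal := (Ring.krullDimLE_one_iff_of_isPrime_bot.1 inferInstance) P hP inferInstance
  letI : Field (A ⧸ P) := Ideal.Quotient.field P
  have : IsJacobsonRing A := isJacobsonRing_of_finiteType (A := k)
  have : Module.Finite k (A ⧸ P) := finite_of_finite_type_of_isJacobsonRing k (A ⧸ P)
  refine WithConv.ext (AlgHom.ext fun a => ?_)
  obtain ⟨c, hc⟩ := (IsAlgClosed.algebraMap_bijective_of_isIntegral (k := k) (K := A ⧸ P)).2
    (Ideal.Quotient.mkₐ k P a)
  have hmem : a - algebraMap k A c ∈ P := by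
    rw [← Ideal.Quotient.eq_zero_iff_mem, map_sub, Ideal.Quotient.mk_algebraMap, hc, Ideal.Quotient.mkₐ_eq_mk, sub_self]
  have hφa : φ a = Polynomial.C c := by
    rw [RingHom.mem_ker, map_sub, AlgHom.commutes, sub_eq_zero] at hmem
    exact hmem
  have h1 := hφ 1 a
  have h0 := hφ 0 a
  rw [hφa, Polynomial.eval_C, pow_one] at h1
  rw [hφa, Polynomial.eval_C, pow_zero] at h0
  exact h1.symm.trans h0

open Groth.Agent.GrpSchLib.HopfRed in
/-- In characteristic zero a nonzero primitive generates. -/
theorem exists_generator₀ (hdim : ringKrullDim A = 1)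
    (hK : ∀ a : A, ∃ n, a ∈ UnipHopf.K k A n) {x : A} (hx : Prim k x) (hx0 : x ≠ 0) :
    Algebra.adjoin k {x} = ⊤ := by
  let B := Algebra.adjoin k {x}
  letI := HopfFF.hopfAlgebra (isSubHopf_adjoin_prim hx)
  let φ : B →ₐc[k] A := BialgHom.ofAlgHom B.val (AlgHom.ext fun _ => rfl)
    (AlgHom.ext fun b => HopfFF.map_δB (isSubHopf_adjoin_prim hx) b)
  have hxB : x ∈ B := Algebra.self_mem_adjoin_singleton k x
  have hbij : Function.Bijective φ := by
    refine HopfFF.bijective_of_injective_of_map_augI φ Subtype.val_injective (le_antisymm ?_ ?_)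
    · rw [Ideal.map_le_iff_le_comap]
      intro b hb
      show CoalgebraStruct.counit (R := k) (φ b) = 0
      rw [CoalgHomClass.counit_comp_apply φ b]
      exact hb
    · intro a ha
      have : (Ideal.span {x}).IsHopfIdeal k := UnipHopf.isHopfIdeal_span_primitive hx
      have : IsReduced (A ⧸ Ideal.span {x}) := isReduced_of_finiteType (k := k)
      have hnil : IsNilpotent (Ideal.Quotient.mk (Ideal.span {x}) a) :=
        UnipHopf.isNilpotent_of_forall_point (L := k) fun f => by
          have hg : (toConv (f.comp (Ideal.Quotient.mkₐ k (Ideal.span {x}))) : G) = 1 :=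
            eq_one_of_prim_eq_zero hdim hK hx hx0 _ (by
              show f (Ideal.Quotient.mk _ x) = 0
              rw [Ideal.Quotient.eq_zero_iff_mem.2 (Ideal.mem_span_singleton_self x), map_zero])
          have h := congrArg (fun w : G => w.ofConv a) hg
          refine h.trans ?_
          show (1 : G) a = 0
          rw [AlgHom.convOne_apply, show CoalgebraStruct.counit (R := k) a = 0 from ha, map_zero]
      have hle : Ideal.span {x} ≤ Ideal.map φ (augI k B) := by
        rw [Ideal.span_singleton_le_iff_mem]
        have hmem : (⟨x, hxB⟩ : B) ∈ augI k B := by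
          show CoalgebraStruct.counit (R := k) (⟨x, hxB⟩ : B) = 0
          rw [← CoalgHomClass.counit_comp_apply φ]
          exact UnipHopf.counit_primitive hx
        exact Ideal.mem_map_of_mem φ hmem
      exact hle (Ideal.Quotient.eq_zero_iff_mem.1 hnil.eq_zero)
  exact Algebra.eq_top_iff.2 fun a => by
    obtain ⟨b, rfl⟩ := hbij.2 a
    exact b.2

end Groth.Agent.GaGmClass
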