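import Mathlib
import Groth.Agent.GaGmClassLib.Basic
import Groth.Agent.DiagHopfLib.Basic

/-!
One dimensional connected diagonalizable groups are the multiplicative group.
-/

set_option autoImplicit false
set_option maxHeartbeats 1000000

noncomputable section

universe u

open TensorProduct HopfRep WithConv
open scoped ComodLib

namespace Groth.Agent.GaGmClass

variable {k : Type u} [Field k] {A : Type u} [CommRing A] [HopfAlgebra k A]

local notation "Γ" => GroupLike k A

lemma groupLike_linearIndependent : LinearIndependent k (fun g : Γ => (g.val : A)) :=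
  linearIndepOn_isGroupLikeElem.linearIndependent.comp (fun g : Γ => ⟨g.val, g.isGroupLikeElem_val⟩)
    fun _ _ h => GroupLike.val_injective (congrArg Subtype.val h)

/-- A linear map sending a basis to an independent family is injective. -/
lemma injective_of_linearIndependent {M N ι : Type*} [AddCommGroup M] [Module k M] [AddCommGroup N] [Module k N]
    (b : Module.Basis ι k M) (f : M →ₗ[k] N) (h : LinearIndependent k fun i => f (b i)) :
    Function.Injective f := fun x y e => by
  apply b.repr.injective
  refine h.finsuppLinearCombination_injective ?_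
  have hf : ∀ z, Finsupp.linearCombination k (fun i => f (b i)) (b.repr z) = f z := fun z => by
    conv_rhs => rw [← b.linearCombination_repr z]
    rw [Finsupp.apply_linearCombination]
    rfl
  rw [hf, hf, e]

lemma groupFG [Algebra.FiniteType k A] (h : IsDiagonalizable k A) : Group.FG Γ := by
  classical
  obtain ⟨s, hs⟩ := Algebra.FiniteType.out (R := k) (A := A)
  have hmem : ∀ a : A, a ∈ Submodule.span k (Set.range fun g : Γ => (g.val : A)) := fun a => by
    have : a ∈ Submodule.span k {x : A | IsGroupLikeElem k x} := by rw [h]; exact Submodule.mem_top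
    refine Submodule.span_mono ?_ this
    exact fun x hx => ⟨⟨x, hx⟩, rfl⟩
  have hfin : ∀ a : A, ∃ T : Finset Γ, a ∈ Submodule.span k ((fun g : Γ => (g.val : A)) '' T) := fun a => by
    obtain ⟨l, hl⟩ := Finsupp.mem_span_range_iff_exists_finsupp.1 (hmem a)
    refine ⟨l.support, ?_⟩
    rw [← hl]
    exact Submodule.sum_mem _ fun g hg => Submodule.smul_mem _ _ (Submodule.subset_span ⟨g, hg, rfl⟩)
  choose T hT using hfin
  let U := s.biUnion T
  let H : Subgroup Γ := Subgroup.closure (U : Set Γ)
  let V : Submodule k A := Submodule.span k ((fun g : Γ => (g.val : A)) '' H)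
  have h1 : (1 : A) ∈ V := Submodule.subset_span ⟨1, one_mem H, rfl⟩
  have hmul : ∀ a ∈ V, ∀ b ∈ V, a * b ∈ V := fun a ha b hb => by
    refine Submodule.span_induction ?_ (by simp) (fun x y _ _ hx hy => by rw [add_mul]; exact add_mem hx hy)
      (fun c x _ hx => by rw [smul_mul_assoc]; exact Submodule.smul_mem _ _ hx) ha
    rintro _ ⟨g, hg, rfl⟩
    refine Submodule.span_induction ?_ (by simp) (fun x y _ _ hx hy => by rw [mul_add]; exact add_mem hx hy)
      (fun c x _ hx => by rw [mul_smul_comm]; exact Submodule.smul_mem _ _ hx) hb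
    rintro _ ⟨g', hg', rfl⟩
    exact Submodule.subset_span ⟨g * g', mul_mem hg hg', rfl⟩
  have htop : ∀ a : A, a ∈ V := fun a => by
    have hle : Algebra.adjoin k (s : Set A) ≤ V.toSubalgebra h1 (fun a b ha hb => hmul a ha b hb) := by
      refine Algebra.adjoin_le fun x hx => ?_
      refine Submodule.span_mono (Set.image_mono ?_) (hT x)
      exact fun g hg => Subgroup.subset_closure (Finset.mem_biUnion.2 ⟨x, hx, hg⟩)
    exact hle (hs ▸ Algebra.mem_top)
  refine ⟨⟨U, eq_top_iff.2 fun g _ => ?_⟩⟩
  by_contra hg
  exact groupLike_linearIndependent.notMem_span_image (s := (H : Set Γ)) hg (htop g.val)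

variable [IsAlgClosed k] [Algebra.FiniteType k A] [IsReduced A] [IsDomain A]

lemma eq_one_of_pow_eq_one {g : Γ} {n : ℕ} (hn : n ≠ 0) (h : g ^ n = 1) : g = 1 := by
  by_contra hne
  have h1 : (g.val : A) ≠ 1 := fun e => hne (GroupLike.val_injective e)
  have h2 : (g.val : A) ^ n = 1 := congrArg GroupLike.val h
  have := transcendental_groupLike g.isGroupLikeElem_val h1 (P := Polynomial.X ^ n - Polynomial.C 1)
    (by simp [h2])
  exact Polynomial.X_pow_sub_C_ne_zero (Nat.pos_of_ne_zero hn) 1 this

/-- A diagonalizable connected group of dimension one is the multiplicative group. -/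
theorem nonempty_equiv_monoidAlgebra (hdim : ringKrullDim A = 1) (hD : IsDiagonalizable k A) :
    Nonempty (A ≃ₐc[k] MonoidAlgebra k (Multiplicative ℤ)) := by
  classical
  have : Group.FG Γ := groupFG hD
  have : IsMulTorsionFree Γ := ⟨fun n hn a b hab => by
    rw [← div_eq_one]
    exact eq_one_of_pow_eq_one hn ((div_pow a b n).trans (div_eq_one.2 hab))⟩
  have : Module.Finite ℤ (Additive Γ) := Module.Finite.iff_addGroup_fg.2 inferInstance
  have : Module.Free ℤ (Additive Γ) := Module.free_of_finite_type_torsion_free'
  let b := Module.Free.chooseBasis ℤ (Additive Γ)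
  let val' : Γ → A := fun g => g.val
  have hsurj : Submodule.span k (Set.range val') = ⊤ := eq_top_iff.2 fun a _ => by
    have : a ∈ Submodule.span k {x : A | IsGroupLikeElem k x} := by rw [hD]; exact Submodule.mem_top
    exact Submodule.span_mono (s := {x : A | IsGroupLikeElem k x}) (t := Set.range val') (fun x hx => ⟨(⟨x, hx⟩ : Γ), rfl⟩) this
  -- rank at most one
  have hsub : Subsingleton (Module.Free.ChooseBasisIndex ℤ (Additive Γ)) := ⟨fun i j => by
    by_contra hij
    apply not_algebraicIndependent (k := k) hdim ((Additive.toMul (b i)).val) ((Additive.toMul (b j)).val)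
    rw [algebraicIndependent_iff_injective_aeval]
    let g := Additive.toMul (b i)
    let g' := Additive.toMul (b j)
    let mon : (Fin 2 →₀ ℕ) → Γ := fun m => g ^ m 0 * g' ^ m 1
    have hmon : Function.Injective mon := fun m m' e => by
      have e' : (m 0 : ℤ) • b i + (m 1 : ℤ) • b j = (m' 0 : ℤ) • b i + (m' 1 : ℤ) • b j := by
        rw [natCast_zsmul, natCast_zsmul, natCast_zsmul, natCast_zsmul]
        exact congrArg Additive.ofMul e
      have := congrArg b.repr e'
      simp only [map_add, map_smul, b.repr_self] at this
      have h0 := congrArg (fun f => f i) this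
      have h1 := congrArg (fun f => f j) this
      simp [hij, Ne.symm hij] at h0 h1
      ext t
      fin_cases t
      · exact h0
      · exact h1
    refine injective_of_linearIndependent (MvPolynomial.basisMonomials (Fin 2) k)
      (MvPolynomial.aeval ![(g.val : A), g'.val]).toLinearMap ?_
    have : (fun m => (MvPolynomial.aeval ![(g.val : A), g'.val]).toLinearMap
        (MvPolynomial.basisMonomials (Fin 2) k m)) = fun m => val' (mon m) := funext fun m => by
      rw [MvPolynomial.coe_basisMonomials, AlgHom.toLinearMap_apply]
      simp only [MvPolynomial.aeval_monomial, map_one, one_mul, val', mon, GroupLike.val_mul, GroupLike.val_pow]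
      rw [Finsupp.prod_fintype _ _ (fun i => pow_zero _)]
      simp [Fin.prod_univ_two]
    rw [this]
    exact groupLike_linearIndependent.comp mon hmon⟩
  -- rank at least one
  obtain ⟨i₀⟩ : Nonempty (Module.Free.ChooseBasisIndex ℤ (Additive Γ)) := by
    by_contra hne
    rw [not_nonempty_iff] at hne
    have hΓ : ∀ g : Γ, g = 1 := fun g => by
      have := b.repr.injective (Subsingleton.elim (b.repr (Additive.ofMul g)) (b.repr 0))
      exact congrArg Additive.toMul this
    have hbij : Function.Bijective (algebraMap k A) := by
      refine ⟨(algebraMap k A).injective, fun a => ?_⟩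
      have : a ∈ Submodule.span k (Set.range val') := by rw [hsurj]; exact Submodule.mem_top
      rw [show Set.range val' = {(1 : A)} from Set.ext fun x => ⟨fun ⟨g, hg⟩ => by
        rw [← hg, hΓ g]; rfl, fun hx => ⟨1, hx.symm⟩⟩, Submodule.mem_span_singleton] at this
      obtain ⟨c, hc⟩ := this
      exact ⟨c, by rw [← hc, Algebra.smul_def, mul_one]⟩
    rw [← ringKrullDim_eq_of_ringEquiv (RingEquiv.ofBijective _ hbij), ringKrullDim_eq_zero_of_field] at hdim
    exact zero_ne_one hdim
  let g₀ := Additive.toMul (b i₀)
  have he : Function.Bijective (zpowersHom Γ g₀) := by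
    refine ⟨fun n m h => ?_, fun g => ⟨Multiplicative.ofAdd (b.repr (Additive.ofMul g) i₀), ?_⟩⟩
    · have h' : n.toAdd • b i₀ = m.toAdd • b i₀ := congrArg Additive.ofMul h
      have := congrArg (fun x => b.repr x i₀) h'
      simpa using this
    · have key : b.repr (Additive.ofMul g) i₀ • b i₀ = Additive.ofMul g := by
        apply b.repr.injective
        ext i
        obtain rfl := Subsingleton.elim i i₀
        simp
      exact congrArg Additive.toMul key
  let e := MulEquiv.ofBijective _ he
  let L := (MonoidAlgebra.liftGroupLikeBialgHom : MonoidAlgebra k Γ →ₐc[k] A).comp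
    (MonoidAlgebra.mapDomainBialgHom k e.toMonoidHom)
  have hL : ∀ n, L (MonoidAlgebra.single n 1) = val' (e n) := fun n => by
    simp [L, val']
  have hLbij : Function.Bijective L := by
    refine ⟨injective_of_linearIndependent (MonoidAlgebra.basis (Multiplicative ℤ) k) (L : _ →ₗ[k] A) ?_, fun a => ?_⟩
    · simp only [MonoidAlgebra.basis_apply]
      have : (fun i => (L : MonoidAlgebra k (Multiplicative ℤ) →ₗ[k] A) (MonoidAlgebra.single i 1)) = fun i => val' (e i) := funext hL
      rw [this]
      exact groupLike_linearIndependent.comp e e.injective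
    · have : a ∈ LinearMap.range (L : MonoidAlgebra k (Multiplicative ℤ) →ₗ[k] A) := by
        refine (Submodule.span_le.2 ?_) (hsurj ▸ Submodule.mem_top : a ∈ Submodule.span k (Set.range val'))
        rintro _ ⟨g, rfl⟩
        exact ⟨MonoidAlgebra.single (e.symm g) 1, (hL _).trans (by rw [e.apply_symm_apply])⟩
      exact this
  exact ⟨(BialgEquiv.ofBijective L hLbij).symm⟩

end Groth.Agent.GaGmClass
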